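import Groth.Agent.RelVA16.Projective
import Groth.Agent.H28.PBMake
import Groth.Agent.H23.Chern.TowerSmooth
import Groth.Agent.QCoh.Support
import Groth.Agent.QCoh.LocFree
import Groth.Agent.S1109
import Groth.Agent.S4991
import Groth.Agent.S8855

/-!
Factorizations of projective morphisms over regular schemes through smooth projective bundles.
-/

set_option autoImplicit false
set_option backward.isDefEq.respectTransparency false
set_option backward.isDefEq.respectTransparency.types false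

universe u

open CategoryTheory CategoryTheory.Limits AlgebraicGeometry TopologicalSpace Opposite

noncomputable section

namespace Groth.Agent.RegFact

open Groth.Agent Groth.Agent.AModX Groth.Agent.SymAlgX

variable {X Y : Scheme.{u}}

/-- The bundle of a finite locally free module is smooth. -/
theorem smooth_pb {E : Y.Modules} (hE : FlatMod.IsFinLocFree E) (B : RelVA16.PB Y E) : Smooth B.p := by
  let ι := {W : B.P.Opens // Smooth (W.ι ≫ B.p)}
  refine IsZariskiLocalAtSource.of_iSup_eq_top (P := @Smooth) (fun W : ι => W.1) ?_ fun W => W.2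
  refine top_le_iff.1 fun z _ => ?_
  obtain ⟨W₀, n, hzW, ⟨i⟩⟩ := hE (B.p z)
  obtain ⟨s₀, hs₀⟩ := H23.Frame.exists_frame i
  obtain ⟨_, ⟨U, hU, rfl⟩, hzU, hUW⟩ := Y.isBasis_affineOpens.exists_subset_of_mem_open hzW W₀.2
  have hs := hs₀.res hUW
  cases n with
  | zero =>
    exfalso
    obtain ⟨e, he⟩ := B.exists_mem_D hU hzU
    have he0 : e = 0 := by
      obtain ⟨c, rfl⟩ := (hs U le_rfl).2 e
      simp [H23.Frame.comb]
    have hf := B.isFrame_fdv hU e
    rw [he0] at hf he
    have h0 : B.fdv U (0 : Γ(E, U)) = 0 := map_zero (B.fd.app U).hom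
    rw [h0, map_zero] at hf
    have h1 : (1 : Γ(B.P, B.D hU (0 : Γ(E, U)))) = 0 :=
      (hf _ le_rfl).1 (by simp)
    have h2 := congrArg (B.P.presheaf.germ (B.D hU (0 : Γ(E, U))) z he) h1
    rw [map_one, map_zero] at h2
    exact one_ne_zero h2
  | succ m =>
    obtain ⟨D, hD, -⟩ := H28.PBMake.exists_pres B.hE B.hj hU _ hs
    let c := H23.ProjBd.coordsOfPres B.hP hU D hD B.hO1
    obtain ⟨j, hj⟩ := c.cover z hzU
    exact Opens.mem_iSup.2 ⟨⟨c.W j, H23.Chern.coords_smooth c j⟩, hj⟩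

/-- A projective morphism embeds into the bundle of a finite locally free module if the base has the resolution
property. -/
theorem exists_closedImmersion_pb (hY : PerfAux.HasResolutionProperty Y) {f : X ⟶ Y}
    (hf : RelProj.IsProjective f) :
    ∃ (E : Y.Modules) (B : RelVA16.PB Y E) (i : X ⟶ B.P),
      FlatMod.IsFinLocFree E ∧ CohB1.IsFT E ∧ IsClosedImmersion i ∧ i ≫ B.p = f := by
  obtain ⟨𝒮, P, p, chart, e, hgen, hft, hP, he⟩ := hf
  obtain ⟨M, hM, hMft, u, hu1, husurj⟩ := RelVA16.exists_degOne_module 𝒮 hft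
  obtain ⟨E, π, hE, hπ⟩ := hY M hM hMft
  have hEq := QCoh.isQCoh_of_isFinLocFree hE
  obtain ⟨B⟩ := RelVA16.PB.exists_of_isQCoh hEq
  obtain ⟨O1, lam, hO1⟩ := RelTildeX.Exists.exists_isRelTwist 𝒮 p chart hP 1
  obtain ⟨ι, hι, hιp, -⟩ := RelVA16.exists_closedImmersion_pb 𝒮 hgen hP hO1 hEq (π ≫ u)
    (fun U hU x => hu1 U hU (π.app U x)) (fun U hU s hs => by
      obtain ⟨x, hx⟩ := husurj U hU s hs
      obtain ⟨y, rfl⟩ := QCoh.app_surjective_of_epi hEq hM π hU x
      exact ⟨y, hx⟩) B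
  exact ⟨E, B, e.hom ≫ ι, hE, QCoh.isFT_of_isFP (QCoh.isFP_of_isFinLocFree hE), inferInstance,
    by rw [Category.assoc, hιp, he]⟩

theorem resolutionProperty (Y : Scheme.{u}) [IsNoetherian Y] [Y.IsSeparated]
    (hY : ∀ y : Y, IsRegularLocalRing (Y.presheaf.stalk y)) : PerfAux.HasResolutionProperty Y :=
  S1109.result Y hY fun _ _ hU hV => hU.inf hV

/-- A closed subscheme with regular local rings of a scheme smooth over a regular base is regularly immersed. -/
theorem isRegularImmersion {W : Scheme.{u}} (i : X ⟶ W) [IsClosedImmersion i] (p : W ⟶ Y) [Smooth p]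
    [IsLocallyNoetherian Y] (hY : ∀ y : Y, IsRegularLocalRing (Y.presheaf.stalk y))
    (hX : ∀ x : X, IsRegularLocalRing (X.presheaf.stalk x)) :
    RegImm.IsRegularImmersion RegImm.Kind.regular i := by
  have : IsLocallyNoetherian W := LocallyOfFiniteType.isLocallyNoetherian p
  have : IsLocallyNoetherian X := LocallyOfFiniteType.isLocallyNoetherian i
  refine S8855.result i (fun w => (S4991.result p w ⟨⊤, trivial, ?_⟩).2 (hY _)) hX
  infer_instance

/-- A quasi-projective morphism embeds into an open subscheme of a smooth projective bundle. -/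
theorem exists_closedImmersion_open (hY : PerfAux.HasResolutionProperty Y) {f : X ⟶ Y}
    (hf : ∃ (Z : Scheme.{u}) (v : X ⟶ Z) (q : Z ⟶ Y), IsOpenImmersion v ∧ RelProj.IsProjective q ∧ v ≫ q = f) :
    ∃ (W : Scheme.{u}) (i : X ⟶ W) (p : W ⟶ Y), IsClosedImmersion i ∧ Smooth p ∧
      (∃ (P : Scheme.{u}) (v : W ⟶ P) (q : P ⟶ Y), IsOpenImmersion v ∧ RelProj.IsProjective q ∧ v ≫ q = p) ∧
      i ≫ p = f := by
  obtain ⟨Z, v, q, hv, hq, rfl⟩ := hf
  obtain ⟨E, B, ι, hE, hft, hι, rfl⟩ := exists_closedImmersion_pb hY hq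
  have := smooth_pb hE B
  let W : B.P.Opens := ⟨(ι.base '' (Set.range v.base)ᶜ)ᶜ,
    (ι.isClosedEmbedding.isClosedMap _ v.isOpenEmbedding.isOpen_range.isClosed_compl).isOpen_compl⟩
  have hpre : ι ⁻¹ᵁ W = v.opensRange := by
    ext z
    show ι.base z ∉ ι.base '' (Set.range v.base)ᶜ ↔ z ∈ Set.range v.base
    rw [ι.isClosedEmbedding.injective.mem_set_image, Set.notMem_compl_iff]
  let e : X ≅ (ι ⁻¹ᵁ W : Scheme.{u}) := v.isoOpensRange ≪≫ Z.isoOfEq hpre.symm
  refine ⟨W, e.hom ≫ ι ∣_ W, W.ι ≫ B.p, inferInstance, inferInstance,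
    ⟨B.P, W.ι, B.p, inferInstance, RelVA16.isProjective_of_closedImmersion_pb B hft (𝟙 _) (Category.id_comp _), rfl⟩,
    ?_⟩
  rw [Category.assoc, morphismRestrict_ι_assoc]
  simp [e]

end Groth.Agent.RegFact
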